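import Groth.Agent.SGA3x.K14.LieTorus
import Groth.Agent.SGA3x.K197.RatNodes
import Groth.Agent.Sga3B.RG.BrDiag

/-!
# Weights with nonzero differential (node N8 of the rationality of the scheme of maximal tori)
-/

set_option autoImplicit false
universe u
open CategoryTheory MonoidalCategory CartesianMonoidalCategory MonObj GrpObj AlgebraicGeometry Limits

namespace K979.Weight

open Groth.Agent Groth.Agent.Sga3B Groth.Agent.Sga3B.FreeBC Groth.Agent.Sga3B.DSPts Groth.Agent.Sga3B.AdGrad
  Groth.Agent.Sga3B.AdPts Groth.Agent.Sga3B.AdMono K15.ConjCoact Groth.Agent.Sga3B.RG.BrDiag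
  Groth.Agent.Books.AffBridge K14.LieTorus

variable {K A : Type u} [Field K] [CommRing A] [HopfAlgebra K A] {N : Type} [AddCommGroup N]

/-- the group structure of `Spec A` -/
noncomputable local instance grpDE : GrpObj (DE K A) := inferInstanceAs (GrpObj (SpecOver K A))

/-- the morphism attached to an algebra map -/
noncomputable def sm {A B : Type u} [CommRing A] [Algebra K A] [CommRing B] [Algebra K B] (f : A →ₐ[K] B) :
    DE K B ⟶ DE K A := specMap K f

lemma fn_sm {B : Type u} [CommRing B] [Algebra K B] (f : A →ₐ[K] B) (a : A) :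
    fn (sm f) a = (Scheme.ΓSpecIso (CommRingCat.of B)).inv (f a) :=
  fn_of_left _ _ f.toRingHom rfl a

lemma sm_mul {B : Type u} [CommRing B] [Algebra K B] (f g : WithConv (A →ₐ[K] B)) :
    sm (f * g).ofConv = sm f.ofConv * sm g.ofConv := specMap_mul K f g

lemma sm_one {B : Type u} [CommRing B] [Algebra K B] :
    sm (1 : WithConv (A →ₐ[K] B)).ofConv = 1 := specMap_one K

lemma sm_injective {A B : Type u} [CommRing A] [Algebra K A] [CommRing B] [Algebra K B] :
    Function.Injective (sm : (A →ₐ[K] B) → (DE K B ⟶ DE K A)) := specMap_injective K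

lemma sm_comp {A B C : Type u} [CommRing A] [Algebra K A] [CommRing B] [Algebra K B] [CommRing C] [Algebra K C]
    (f : A →ₐ[K] B) (g : B →ₐ[K] C) : sm (g.comp f) = sm g ≫ sm f := specMap_comp K f g

lemma inv_injective (B : Type u) [CommRing B] : Function.Injective (Scheme.ΓSpecIso (CommRingCat.of B)).inv :=
  (Scheme.ΓSpecIso (CommRingCat.of B)).symm.commRingCatIsoToRingEquiv.injective

lemma epsA_eq (a : A) : epsA K A a = Coalgebra.counit (R := K) a := by
  have h1 := fn_eps (R := K) (A := A) a
  have h2 := fn_sm (K := K) (1 : WithConv (A →ₐ[K] K)).ofConv a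
  rw [sm_one, ← fn_id_apply (R := K)] at h2
  exact (fn_id_bijective (R := K) K).1 (h1.trans h2)

variable (K N) in
/-- the canonical isomorphism -/
noncomputable def dg : DE K (MonoidAlgebra K (Multiplicative N)) ≅ Red.DS (Spec (CommRingCat.of K)) N :=
  @asIso _ _ (SpecOver K (MonoidAlgebra K (Multiplicative N))) _ (diagTo K N) (isIso_diagTo K N)

lemma dsChar_dg {B : Type u} [CommRing B] [Algebra K B] (g : MonoidAlgebra K (Multiplicative N) →ₐ[K] B)
    (n : Multiplicative N) : dsChar (sm g ≫ (dg K N).hom) n =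
      (Scheme.ΓSpecIso (CommRingCat.of B)).inv (g (MonoidAlgebra.single n 1)) := by
  have h1 : sm g ≫ (dg K N).hom = dsSpecEquiv B ((g : _ →* B).comp (MonoidAlgebra.of K (Multiplicative N))) :=
    specMap_diagTo g
  rw [h1]
  exact DFunLike.congr_fun (dsChar_dsEquiv _) n

/-- the homomorphism `D(N) ⟶ Spec A` attached to `t` -/
noncomputable def zt (t : A →ₐc[K] MonoidAlgebra K (Multiplicative N)) :
    Red.DS (Spec (CommRingCat.of K)) N ⟶ DE K A :=
  (dg K N).inv ≫ sm (t : A →ₐ[K] MonoidAlgebra K (Multiplicative N))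

instance (t : A →ₐc[K] MonoidAlgebra K (Multiplicative N)) : IsMonHom (zt t) := by
  have h1 : IsMonHom (specMap K (t : A →ₐ[K] MonoidAlgebra K (Multiplicative N))) := isMonHom_specMap K t
  have h0 : IsIso (diagTo K N) := isIso_diagTo K N
  have h2 : IsMonHom (asIso (diagTo K N)).hom := isMonHom_diagTo K N
  have h3 : IsMonHom (asIso (diagTo K N)).inv := inferInstance
  exact inferInstanceAs (IsMonHom ((asIso (diagTo K N)).inv ≫ specMap K (t : A →ₐ[K] MonoidAlgebra K (Multiplicative N))))

lemma mono_zt {t : A →ₐc[K] MonoidAlgebra K (Multiplicative N)} (ht : Function.Surjective t) : Mono (zt t) := by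
  have h1 : IsClosedImmersion (sm (t : A →ₐ[K] MonoidAlgebra K (Multiplicative N))).left :=
    IsClosedImmersion.spec_of_surjective _ ht
  have h2 : Mono (sm (t : A →ₐ[K] MonoidAlgebra K (Multiplicative N))) :=
    (Over.forget _).mono_of_mono_map (inferInstanceAs (Mono (sm (t : A →ₐ[K] MonoidAlgebra K (Multiplicative N))).left))
  exact mono_comp _ _

section point

variable (t : A →ₐc[K] MonoidAlgebra K (Multiplicative N)) (m : N) (δ : A →ₗ[K] K)
  (hδ : ∀ x y, δ (x * y) = epsA K A x * δ y + δ x * epsA K A y)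

variable (c : MonoidAlgebra K (Multiplicative N))

/-- the point `ε + c δ s` -/
noncomputable def pt : A →ₐ[K] DualNumber (MonoidAlgebra K (Multiplicative N)) where
  toFun a := algebraMap K _ (epsA K A a) + algebraMap (MonoidAlgebra K (Multiplicative N)) _ (c * algebraMap K _ (δ a)) * DualNumber.eps
  map_one' := by rw [map_one, map_one, δ_one δ hδ, map_zero, mul_zero, map_zero, zero_mul, add_zero]
  map_zero' := by simp
  map_add' x y := by simp only [map_add, map_mul]; ring
  map_mul' x y := by
    rw [hδ]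
    simp only [map_mul, map_add]
    have h0 : (DualNumber.eps : DualNumber (MonoidAlgebra K (Multiplicative N))) * DualNumber.eps = 0 := DualNumber.eps_mul_eps
    have h1 : ∀ x : K, algebraMap (MonoidAlgebra K (Multiplicative N)) (DualNumber (MonoidAlgebra K (Multiplicative N)))
      (algebraMap K _ x) = algebraMap K _ x := fun x => (IsScalarTower.algebraMap_apply _ _ _ _).symm
    simp only [h1]
    linear_combination (-1 : DualNumber (MonoidAlgebra K (Multiplicative N))) * (algebraMap _ _ c * algebraMap _ _ c * algebraMap K _ (δ x) * algebraMap K _ (δ y)) * h0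
  commutes' x := by
    have hx : δ (algebraMap K A x) = 0 := by
      rw [Algebra.algebraMap_eq_smul_one, map_smul, δ_one δ hδ, smul_zero]
    rw [AlgHom.commutes, hx, map_zero, mul_zero, map_zero, zero_mul, add_zero]
    rfl

lemma fst_pt (a : A) : TrivSqZeroExt.fst (pt δ hδ c a) = algebraMap K _ (epsA K A a) := by
  change TrivSqZeroExt.fst (algebraMap K (DualNumber (MonoidAlgebra K (Multiplicative N))) (epsA K A a) +
    algebraMap (MonoidAlgebra K (Multiplicative N)) _ (c * algebraMap K _ (δ a)) * DualNumber.eps) = _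
  simp [TrivSqZeroExt.algebraMap_eq_inl']

lemma snd_pt (a : A) : TrivSqZeroExt.snd (pt δ hδ c a) = c * algebraMap K _ (δ a) := by
  change TrivSqZeroExt.snd (algebraMap K (DualNumber (MonoidAlgebra K (Multiplicative N))) (epsA K A a) +
    algebraMap (MonoidAlgebra K (Multiplicative N)) _ (c * algebraMap K _ (δ a)) * DualNumber.eps) = _
  simp [TrivSqZeroExt.algebraMap_eq_inl']

variable (K N) in
/-- constants -/
noncomputable def inl' : MonoidAlgebra K (Multiplicative N) →ₐ[K] DualNumber (MonoidAlgebra K (Multiplicative N)) :=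
  TrivSqZeroExt.inlAlgHom K (MonoidAlgebra K (Multiplicative N)) (MonoidAlgebra K (Multiplicative N))

include hδ in
/-- conjugation of the point -/
theorem cj_pt (hm : ∀ (e : N) (b : A), e ≠ m → (coactC (zt t)).IsHom e b → δ b = 0) :
    cj (zt t) (sm (inl' K N) ≫ (dg K N).hom) (sm (pt δ hδ 1)) =
      sm (pt δ hδ (MonoidAlgebra.single (Multiplicative.ofAdd m) 1)) := by
  apply fn_injective
  intro a
  obtain ⟨I, b, hb, rfl⟩ := exists_sum (zt t) a
  rw [map_sum, map_sum]
  refine Finset.sum_congr rfl fun n _ => ?_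
  rw [fn_cj_of_isHom (zt t) _ _ (hb n), dsChar_dg, fn_sm, fn_sm, ← _root_.map_mul]
  congr 1
  have hi : inl' K N (MonoidAlgebra.single (Multiplicative.ofAdd n) 1) =
    TrivSqZeroExt.inl (MonoidAlgebra.single (Multiplicative.ofAdd n) 1) := rfl
  rw [hi]
  have he : n ≠ 0 → epsA K A (b n) = 0 := fun hn => epsA_eq_zero (zt t) hn (hb n)
  refine TrivSqZeroExt.ext ?_ ?_
  · rw [TrivSqZeroExt.fst_mul, fst_pt, fst_pt, TrivSqZeroExt.fst_inl]
    by_cases hn : n = 0
    · subst hn
      exact _root_.mul_one _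
    · rw [he hn, map_zero, zero_mul]
  · rw [TrivSqZeroExt.snd_mul, snd_pt, snd_pt, fst_pt, TrivSqZeroExt.fst_inl, TrivSqZeroExt.snd_inl, smul_zero, zero_add]
    by_cases hn : n = m
    · subst hn
      rw [_root_.one_mul, op_smul_eq_mul, _root_.mul_comm]
    · rw [hm n (b n) hn (hb n)]
      simp

end point

/-- **The convolution identity.** -/
theorem conv_eq (t : A →ₐc[K] MonoidAlgebra K (Multiplicative N)) (m : N) (δ : A →ₗ[K] K)
    (hδ : ∀ x y, δ (x * y) = epsA K A x * δ y + δ x * epsA K A y)
    (hm : ∀ (e : N) (b : A), e ≠ m → (coactC (zt t)).IsHom e b → δ b = 0) :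
    WithConv.toConv (t : A →ₐ[K] MonoidAlgebra K (Multiplicative N)).toLinearMap *
        WithConv.toConv ((Algebra.linearMap K (MonoidAlgebra K (Multiplicative N))).comp δ) =
      WithConv.toConv ((LinearMap.mulLeft K (MonoidAlgebra.single (Multiplicative.ofAdd m) (1 : K))).comp
          (Algebra.linearMap K (MonoidAlgebra K (Multiplicative N))) |>.comp δ) *
        WithConv.toConv (t : A →ₐ[K] MonoidAlgebra K (Multiplicative N)).toLinearMap := by
  have h1 := cj_pt t m δ hδ hm
  rw [cj, mul_inv_eq_iff_eq_mul] at h1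
  have h2 : (sm (inl' K N) ≫ (dg K N).hom) ≫ zt t = sm ((inl' K N).comp (t : A →ₐ[K] MonoidAlgebra K (Multiplicative N))) := by
    rw [zt, Category.assoc, Iso.hom_inv_id_assoc, sm_comp]
  rw [h2] at h1
  have h3 : WithConv.toConv ((inl' K N).comp (t : A →ₐ[K] MonoidAlgebra K (Multiplicative N))) * WithConv.toConv (pt δ hδ 1) =
      WithConv.toConv (pt δ hδ (MonoidAlgebra.single (Multiplicative.ofAdd m) 1)) *
        WithConv.toConv ((inl' K N).comp (t : A →ₐ[K] MonoidAlgebra K (Multiplicative N))) := by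
    apply WithConv.ofConv_injective
    apply sm_injective
    rw [sm_mul, sm_mul]
    exact h1
  apply WithConv.ofConv_injective
  refine LinearMap.ext fun a => ?_
  let R := Coalgebra.Repr.arbitrary K a
  have h4 := congrArg (fun f : WithConv (A →ₐ[K] DualNumber (MonoidAlgebra K (Multiplicative N))) =>
    TrivSqZeroExt.snd (f.ofConv.toLinearMap a)) h3
  have h5 : ∀ f g : WithConv (A →ₐ[K] DualNumber (MonoidAlgebra K (Multiplicative N))),
      (f * g).ofConv.toLinearMap a = ∑ i ∈ R.index, f.ofConv (R.left i) * g.ofConv (R.right i) := by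
    intro f g
    have h6 := congrArg (fun l : WithConv (A →ₗ[K] DualNumber (MonoidAlgebra K (Multiplicative N))) => l.ofConv a)
      (AlgHom.toLinearMap_convMul f g)
    refine h6.trans ?_
    exact R.convMul_apply _ _
  have h7 : ∀ f g : WithConv (A →ₗ[K] MonoidAlgebra K (Multiplicative N)),
      (f * g).ofConv a = ∑ i ∈ R.index, f.ofConv (R.left i) * g.ofConv (R.right i) := fun f g => R.convMul_apply _ _
  simp only [h5, TrivSqZeroExt.snd_sum, TrivSqZeroExt.snd_mul, snd_pt] at h4
  rw [h7, h7]
  refine Eq.trans (Finset.sum_congr rfl fun i _ => ?_) (h4.trans (Finset.sum_congr rfl fun i _ => ?_))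
  · change (t : A →ₐ[K] MonoidAlgebra K (Multiplicative N)) (R.left i) * algebraMap K _ (δ (R.right i)) =
      (t : A →ₐ[K] MonoidAlgebra K (Multiplicative N)) (R.left i) • (1 * algebraMap K _ (δ (R.right i))) +
        MulOpposite.op _ • (0 : MonoidAlgebra K (Multiplicative N))
    rw [smul_zero, add_zero, _root_.one_mul, smul_eq_mul]
  · change _ • (0 : MonoidAlgebra K (Multiplicative N)) +
        MulOpposite.op ((t : A →ₐ[K] MonoidAlgebra K (Multiplicative N)) (R.right i)) •
          (MonoidAlgebra.single (Multiplicative.ofAdd m) 1 * algebraMap K _ (δ (R.left i))) =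
      (MonoidAlgebra.single (Multiplicative.ofAdd m) 1 * algebraMap K _ (δ (R.left i))) *
        (t : A →ₐ[K] MonoidAlgebra K (Multiplicative N)) (R.right i)
    rw [smul_zero, zero_add, op_smul_eq_mul]

/-- **N8**: a nontrivial torus in a group with trivial reductive centre has a weight on the Lie algebra with
nonzero differential. -/
theorem main : K197.Rat.N8_weight.{u} := by
  intro K A _ _ _ _ _ hsm0 hZ r hr t ht
  by_contra hcon
  push Not at hcon
  let N := Fin r → ℤ
  have hNfg : AddGroup.FG N := inferInstance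
  let z : Red.DS (Spec (CommRingCat.of K)) N ⟶ DE K A := zt t
  have hzm : Mono z := mono_zt ht
  have hz : IsMonHom z := inferInstanceAs (IsMonHom (zt t))
  have hsm : Smooth (DE K A).hom := hsm0
  have hint : IsIntegral (DE K A).left := (affine_isIntegral_iff (CommRingCat.of A)).2 inferInstance
  have hconn : ConnectedSpace (DE K A).left := inferInstance
  have h0 : GrpObj (Over.mk (DE K A).hom) := grpDE
  have hirr' : GeometricallyIrreducible (DE K A).hom :=
    Sga3C.GrpIrr.geometricallyIrreducible_of_connected_fibres (DE K A).hom (K14.InterTori.isConnected_fibre (DE K A))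
  -- algebra
  have hfp : Algebra.FiniteType K A := by
    have h2 : LocallyOfFiniteType (Spec.map (CommRingCat.ofHom (algebraMap K A))) :=
      inferInstanceAs (LocallyOfFiniteType (DE K A).hom)
    rw [HasRingHomProperty.Spec_iff (P := @LocallyOfFiniteType)] at h2
    exact (RingHom.finiteType_algebraMap).mp h2
  have hnoeth : IsNoetherianRing A := Algebra.FiniteType.isNoetherianRing K A
  -- the weights
  let φ : N →+ (Fin r → K) := (Int.castAddHom K).compLeft (Fin r)
  let N' : AddSubgroup N := φ.ker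
  let s : Spec (CommRingCat.of K) := IsLocalRing.closedPoint K
  have hwts : K15.CentSplit.wts z s ⊆ N' := by
    rintro n ⟨a, ha, x, hx, hxa⟩
    by_contra hn
    have ha0 : a ≠ 0 := by
      rintro rfl
      rw [map_zero] at hxa
      simp at hxa
    obtain ⟨m, δ, hm, hδ, hδm, b, hb⟩ := K14.LieWeight.exists_derivation (C := coactC z) (ε := epsA K A)
      (fun n a hn ha => epsA_eq_zero z hn ha) N' hn ha ha0
    obtain ⟨i, hi⟩ : ∃ i, (m i : K) ≠ 0 := by
      by_contra h
      push Not at h
      exact hm (funext h)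
    let lam : N →+ K := (Int.castAddHom K).comp (Pi.evalAddMonoidHom (fun _ : Fin r => ℤ) i)
    refine hcon m lam δ hi ?_ ?_ ?_
    · rintro rfl
      exact hb rfl
    · intro x y
      rw [hδ, epsA_eq, epsA_eq]
      change _ = Coalgebra.counit x * δ y + Coalgebra.counit y * δ x
      ring
    · exact conv_eq t m δ hδ hδm
  obtain ⟨V, hsV, hV⟩ := K15.CentSplit.exists_nhd_central z s hNfg N' hwts
  have hVall : ∀ X : Over (Spec (CommRingCat.of K)), Set.range X.hom ⊆ (V : Set (Spec (CommRingCat.of K))) := by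
    rintro X _ ⟨x, rfl⟩
    have : X.hom x = s := Subsingleton.elim (α := PrimeSpectrum K) _ _
    rw [this]
    exact hsV
  have hk : Mono (Red.DSmap (Spec (CommRingCat.of K)) (QuotientAddGroup.mk' N')) :=
    AdCentre.mono_DSmap _ (QuotientAddGroup.mk'_surjective _)
  have hkm : IsMonHom (Red.DSmap (Spec (CommRingCat.of K)) (QuotientAddGroup.mk' N')) := BorSpan613.isMonHom_DSmap _ _
  have htriv : Red.IsTrivialGrp (Red.DS (Spec (CommRingCat.of K)) (N ⧸ N')) := by
    have h0 : Mono (Red.DSmap (Spec (CommRingCat.of K)) (QuotientAddGroup.mk' N') ≫ z) := mono_comp _ _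
    have h00 : IsMonHom (Red.DSmap (Spec (CommRingCat.of K)) (QuotientAddGroup.mk' N') ≫ z) := inferInstance
    refine @hZ _ _ (Red.DSmap (Spec (CommRingCat.of K)) (QuotientAddGroup.mk' N') ≫ z) h00 h0
      (K10.MTLoc.of_split inferInstance ⟨Iso.refl _⟩) fun X x g' => ?_
    let g : X ⟶ DE K A := g'
    have h1 := hV X (hVall X) x g
    have h2 : ((x ≫ Red.DSmap (Spec (CommRingCat.of K)) (QuotientAddGroup.mk' N')) ≫ z) * g *
      ((x ≫ Red.DSmap (Spec (CommRingCat.of K)) (QuotientAddGroup.mk' N')) ≫ z)⁻¹ = g := h1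
    rw [mul_inv_eq_iff_eq_mul, Category.assoc] at h2
    exact h2
  have hall : ∀ n : N, n ∈ N' := fun n =>
    (QuotientAddGroup.eq_zero_iff n).1 (eq_zero_of_isTrivialGrp htriv _)
  have h1 : φ (Pi.single ⟨0, Nat.pos_of_ne_zero hr⟩ 1) = 0 := hall (Pi.single ⟨0, Nat.pos_of_ne_zero hr⟩ 1)
  have h2 := congrFun h1 ⟨0, Nat.pos_of_ne_zero hr⟩
  have h3 : ((Pi.single ⟨0, Nat.pos_of_ne_zero hr⟩ 1 : Fin r → ℤ) ⟨0, Nat.pos_of_ne_zero hr⟩ : K) = 0 := h2
  rw [Pi.single_eq_same] at h3
  simp at h3

end K979.Weight
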