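import Groth.Agent.SGA3x.K197.RatNodes3
import Mathlib.GroupTheory.CosetCover

/-!
# Regular elements in the Lie algebra of a torus over an infinite field

Node `P2_reg` of `RatNodes3` (helper197, S8390): `main`.
-/

set_option autoImplicit false
set_option linter.unusedVariables false
universe u
open Coalgebra WithConv

namespace K979.RatReg

open K197.Rat

noncomputable section

variable {k K A : Type u} [Field k] [Field K] [Algebra k K] [CommRing A] [HopfAlgebra k A]

lemma lie_smul' (X Y : Cv k A K) (c : K) : ⁅X, c • Y⁆ = c • ⁅X, Y⁆ := by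
  rw [lie_eq, mul_smul_comm, smul_mul_assoc, ← smul_sub, ← lie_eq]

lemma smul_lie' (X Y : Cv k A K) (c : K) : ⁅c • X, Y⁆ = c • ⁅X, Y⁆ := by
  rw [lie_eq, mul_smul_comm, smul_mul_assoc, ← smul_sub, ← lie_eq]

lemma comp_sum {N : Type} [AddCommGroup N] (t : Pt k A (GA K N)) (χ : N) {ι : Type*} (s : Finset ι)
    (f : ι → Cv k A K) : comp t χ (∑ i ∈ s, f i) = ∑ i ∈ s, comp t χ (f i) := by
  classical
  have h0 : comp t χ (0 : Cv k A K) = 0 := by
    have := comp_smul (t := t) χ (0 : K) (0 : Cv k A K)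
    rwa [zero_smul, zero_smul] at this
  induction s using Finset.induction_on with
  | empty => exact h0
  | insert i s hi ih => rw [Finset.sum_insert hi, Finset.sum_insert hi, comp_add, ih]

/-- a finite set of weights containing the weights of all the derivations defined over `k` -/
lemma exists_weights [Algebra.FiniteType k A] {N : Type} [AddCommGroup N] {t : Pt k A (GA K N)} (ht : IsHomT t) :
    ∃ S : Finset N, ∀ D : Cv k A k, IsDer D → up k K D = ∑ χ ∈ S, comp t χ (up k K D) := by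
  classical
  obtain ⟨n, e, x, he, hx, h⟩ := exists_coord (k := k) (A := A)
  have hS : ∀ i, ∃ S : Finset N, (∀ χ ∉ S, comp t χ (up k K (e i)) = 0) ∧
      up k K (e i) = ∑ χ ∈ S, comp t χ (up k K (e i)) := fun i => exists_sum ht (he i).up
  choose S hS0 hS1 using hS
  let S' : Finset N := Finset.univ.biUnion S
  have hS2 : ∀ i, up k K (e i) = ∑ χ ∈ S', comp t χ (up k K (e i)) := by
    intro i
    refine (hS1 i).trans (Finset.sum_subset (Finset.subset_biUnion_of_mem S (Finset.mem_univ i)) ?_)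
    intro χ _ hχ
    exact hS0 i χ hχ
  refine ⟨S', fun D hD => ?_⟩
  have h1 := h K (up k K D) hD.up
  calc up k K D = ∑ i, (up k K D : Cv k A K) (x i) • up k K (e i) := h1
    _ = ∑ i, (up k K D : Cv k A K) (x i) • ∑ χ ∈ S', comp t χ (up k K (e i)) := by
      refine Finset.sum_congr rfl fun i _ => ?_
      rw [← hS2 i]
    _ = ∑ χ ∈ S', ∑ i, (up k K D : Cv k A K) (x i) • comp t χ (up k K (e i)) := by
      simp_rw [Finset.smul_sum]
      rw [Finset.sum_comm]
    _ = ∑ χ ∈ S', comp t χ (up k K D) := by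
      refine Finset.sum_congr rfl fun χ _ => ?_
      conv_rhs => rw [h1]
      rw [comp_sum]
      exact Finset.sum_congr rfl fun i _ => (comp_smul _ _ _).symm

/-- the elements of `𝔱` killing the weight vectors of weight `χ` -/
def kil {N : Type} [AddCommGroup N] (t : Pt k A (GA K N)) (𝔱 : Submodule k (Cv k A k)) (χ : N) : Submodule k 𝔱 where
  carrier := {Z | ∀ X : Cv k A K, IsWt t χ X → ⁅(up k K Z.1 : Cv k A K), X⁆ = 0}
  add_mem' h h' X hX := by
    rw [Submodule.coe_add, up_add, add_lie, h X hX, h' X hX, add_zero]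
  zero_mem' X hX := by
    rw [Submodule.coe_zero, up_zero, zero_lie]
  smul_mem' r Z h X hX := by
    rw [Submodule.coe_smul, up_smul, smul_lie', h X hX, smul_zero]

theorem main : K197.Rat.P2_reg.{u} := by
  classical
  intro k K A _ _ _ _ _ _ _ r t ht 𝔱 h𝔱 h1 h2
  obtain ⟨S, hS⟩ := exists_weights (k := k) (A := A) ht
  let P : Finset (Subspace k 𝔱) := (S.image (kil t 𝔱)).erase ⊤
  have hP : ⋃ p ∈ P, (p : Set 𝔱) ≠ Set.univ :=
    Subspace.biUnion_ne_univ_of_top_notMem (Finset.notMem_erase _ _)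
  obtain ⟨X₀, hX₀⟩ := (Set.ne_univ_iff_exists_notMem _).1 hP
  have hX₁ : ∀ χ ∈ S, kil t 𝔱 χ ≠ ⊤ → X₀ ∉ kil t 𝔱 χ := by
    intro χ hχ hne hmem
    exact hX₀ (Set.mem_biUnion (Finset.mem_coe.2 (Finset.mem_erase.2 ⟨hne, Finset.mem_image_of_mem _ hχ⟩)) hmem)
  obtain ⟨l₀, hl₀⟩ := h2 X₀.1 X₀.2
  refine ⟨X₀.1, X₀.2, fun D hD hZ Z hZt => ?_⟩
  -- the components
  have hw : ∀ χ, IsWt t χ (comp t χ (up k K D)) := fun χ => isWt_comp ht χ _
  have hb : ∀ χ, ⁅(up k K X₀.1 : Cv k A K), comp t χ (up k K D)⁆ = l₀ χ • comp t χ (up k K D) := by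
    intro χ
    rw [hl₀]
    exact dh_lie ht l₀ (hw χ)
  have hbb : ⁅(up k K X₀.1 : Cv k A K), ⁅(up k K X₀.1 : Cv k A K), (up k K D : Cv k A K)⁆⁆ = 0 := by
    rw [← up_lie, ← up_lie, hZ X₀.1 X₀.2, up_zero]
  have hbs : ∑ χ ∈ S, (l₀ χ * l₀ χ) • comp t χ (up k K D) = 0 := by
    rw [hS D hD, lie_sum, lie_sum] at hbb
    rw [← hbb]
    refine Finset.sum_congr rfl fun χ _ => ?_
    rw [hb, lie_smul', hb, smul_smul]
  have hbc : ∀ χ ∈ S, l₀ χ * l₀ χ = 0 ∨ comp t χ (up k K D) = 0 := by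
    intro χ hχ
    have h3 := congrArg (comp t χ) hbs
    rw [comp_sum] at h3
    have h4 : ∑ ψ ∈ S, comp t χ ((l₀ ψ * l₀ ψ) • comp t ψ (up k K D)) =
        (l₀ χ * l₀ χ) • comp t χ (up k K D) := by
      rw [Finset.sum_eq_single χ]
      · rw [comp_smul, (hw χ).comp_eq, if_pos rfl]
      · intro ψ _ hne
        rw [comp_smul, (hw ψ).comp_eq, if_neg hne, smul_zero]
      · intro h
        exact absurd hχ h
    have h0 : comp t χ (0 : Cv k A K) = 0 := by
      have := comp_smul (t := t) χ (0 : K) (0 : Cv k A K)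
      rwa [zero_smul, zero_smul] at this
    rw [h4, h0] at h3
    exact smul_eq_zero.1 h3
  apply up_injective (S := k) (R := K) (algebraMap k K).injective
  rw [up_lie, up_zero, hS D hD, lie_sum]
  refine Finset.sum_eq_zero fun χ hχ => ?_
  rcases hbc χ hχ with h | h
  · by_cases hk : kil t 𝔱 χ = ⊤
    · have : (⟨Z, hZt⟩ : 𝔱) ∈ kil t 𝔱 χ := by rw [hk]; trivial
      exact this _ (hw χ)
    · exfalso
      apply hX₁ χ hχ hk
      intro X hX
      rw [hl₀, dh_lie ht l₀ hX, mul_self_eq_zero.1 h, zero_smul]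
  · rw [h, lie_zero]

end

end K979.RatReg
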